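import Groth.Prelude.Def_W4c5isocrystsimpconnFrobH

import Groth.Agent.Coherent.ModExt
import Groth.Agent.KPull28.Basic
import Groth.Agent.KvbLam28.Basic
import Groth.Agent.FlatMor12.FlatFun.GenPts
import Groth.Agent.DCat.ProjPerfFree

/-!
# Frobenius pullbacks of iterated extensions of the structure module
-/

set_option autoImplicit false
set_option backward.isDefEq.respectTransparency false
set_option backward.isDefEq.respectTransparency.types false
set_option linter.style.haveILetI false
set_option synthInstance.maxHeartbeats 400000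
set_option maxHeartbeats 1000000

universe u

open CategoryTheory CategoryTheory.Limits CategoryTheory.Abelian AlgebraicGeometry Opposite TopologicalSpace
open Groth.Agent

namespace Groth.Agent.IterExt10

variable {X : Scheme.{u}}

local notation "O" => Coh.structureModule

/-- The constant sheaf of integers. -/
noncomputable abbrev cZ (X : Scheme.{u}) : Sheaf (Opens.grothendieckTopology X) AddCommGrpCat.{u} :=
  (constantSheaf (Opens.grothendieckTopology X) AddCommGrpCat.{u}).obj (AddCommGrpCat.of (ULift.{u} ℤ))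

/-- The multiples of one. -/
noncomputable def multOne (X : Scheme.{u}) :
    (Functor.const (Opens X)ᵒᵖ).obj (AddCommGrpCat.of (ULift.{u} ℤ)) ⟶ (Coh.toAb (O X)).obj where
  app U := AddCommGrpCat.ofHom (X := ULift.{u} ℤ) (Y := (Coh.toAb (O X)).obj.obj U)
    ((zmultiplesHom Γ(X, U.unop) 1).comp AddEquiv.ulift.toAddMonoidHom)
  naturality U V i := by
    refine ConcreteCategory.hom_ext _ _ fun n => ?_
    show n.down • (1 : Γ(X, V.unop)) = X.presheaf.map i (n.down • (1 : Γ(X, U.unop)))
    rw [map_zsmul, map_one]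

/-- The unit section. -/
noncomputable def one (X : Scheme.{u}) : cZ X ⟶ Coh.toAb (O X) :=
  ⟨sheafifyLift _ (multOne X) (Coh.toAb (O X)).property⟩

/-- The generator of the constant sheaf. -/
noncomputable def gen (X : Scheme.{u}) : (cZ X).obj.obj (op ⊤) :=
  (toSheafify (Opens.grothendieckTopology X) ((Functor.const (Opens X)ᵒᵖ).obj (AddCommGrpCat.of (ULift.{u} ℤ)))).app
    (op ⊤) (ULift.up 1)

theorem one_gen : (one X).hom.app (op ⊤) (gen X) = (1 : Γ(X, ⊤)) := by
  have h := congrArg (fun t => t.app (op ⊤) (ULift.up 1))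
    (toSheafify_sheafifyLift (Opens.grothendieckTopology X) (multOne X) (Coh.toAb (O X)).property)
  refine h.trans ?_
  show (1 : ℤ) • (1 : Γ(X, ⊤)) = 1
  rw [one_zsmul]

variable (p : ℕ) [Fact p.Prime] [FrobSch.IsCharP X p]

theorem one_frob : one X ≫ W4c5isocrystsimpconn.frobAb X p = one X := by
  apply Sheaf.hom_ext
  refine sheafify_hom_ext _ _ _ (Coh.toAb (O X)).property ?_
  show toSheafify _ _ ≫ (one X).hom ≫ (W4c5isocrystsimpconn.frobAb X p).hom = toSheafify _ _ ≫ (one X).hom
  have h : toSheafify _ _ ≫ (one X).hom = multOne X := toSheafify_sheafifyLift _ _ _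
  rw [← Category.assoc, h]
  refine NatTrans.ext (funext fun U => ConcreteCategory.hom_ext _ _ fun n => ?_)
  show FrobSch.powHom p Γ(X, U.unop) (FrobSch.natCast_eq_zero_app X p U.unop) (n.down • (1 : Γ(X, U.unop))) =
    n.down • (1 : Γ(X, U.unop))
  rw [map_zsmul, map_one]

/-- Pullback by the absolute Frobenius. -/
noncomputable abbrev N (X : Scheme.{u}) [FrobSch.IsCharP X p] : X.Modules ⥤ X.Modules :=
  Scheme.Modules.pullback (FrobSch.frob X p)

/-- Sections go to the Frobenius pullback. -/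
noncomputable def eta (M : X.Modules) : Coh.toAb M ⟶ Coh.toAb ((N p X).obj M) :=
  ⟨{ app := fun U => ((SheafOfModules.toSheaf X.ringCatSheaf).map
      ((Scheme.Modules.pullbackPushforwardAdjunction (FrobSch.frob X p)).unit.app M)).hom.app U
     naturality := fun _ _ i => ((SheafOfModules.toSheaf X.ringCatSheaf).map
      ((Scheme.Modules.pullbackPushforwardAdjunction (FrobSch.frob X p)).unit.app M)).hom.naturality i }⟩

theorem eta_natural {M M' : X.Modules} (χ : M ⟶ M') :
    (Coherent.toAbFunctor X).map χ ≫ eta p M' = eta p M ≫ (Coherent.toAbFunctor X).map ((N p X).map χ) := by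
  apply Sheaf.hom_ext
  refine NatTrans.ext (funext fun U => ?_)
  exact congrArg (fun t => ((SheafOfModules.toSheaf X.ringCatSheaf).map t).hom.app U)
    ((Scheme.Modules.pullbackPushforwardAdjunction (FrobSch.frob X p)).unit.naturality χ)

/-- The pullback of the structure module. -/
noncomputable def uO (X : Scheme.{u}) [FrobSch.IsCharP X p] : (N p X).obj (O X) ⟶ O X :=
  SheafOfModules.pullbackObjUnitToUnit (FrobSch.frob X p).toRingCatSheafHom

theorem eta_one : eta p (O X) ≫ (Coherent.toAbFunctor X).map (uO p X) = W4c5isocrystsimpconn.frobAb X p := by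
  apply Sheaf.hom_ext
  refine NatTrans.ext (funext fun U => ?_)
  have h := SheafOfModules.pullbackPushforwardAdjunction_homEquiv_pullbackObjUnitToUnit
    (FrobSch.frob X p).toRingCatSheafHom
  rw [Adjunction.homEquiv_unit] at h
  refine (congrArg (fun t => ((SheafOfModules.toSheaf X.ringCatSheaf).map t).hom.app U) h).trans ?_
  exact ConcreteCategory.hom_ext _ _ fun s => rfl

instance : IsIso (uO p X) := by
  haveI : (Opens.map (FrobSch.frob X p).base).Final :=
    Functor.final_of_natIso (show 𝟭 (Opens X) ≅ Opens.map (FrobSch.frob X p).base from (Opens.mapId (X := X.toTopCat)).symm)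
  exact inferInstanceAs (IsIso (SheafOfModules.pullbackObjUnitToUnit (FrobSch.frob X p).toRingCatSheafHom))

/-- The class of an extension of the structure module. -/
noncomputable def cls {A B : X.Modules} {i : A ⟶ B} {q : B ⟶ O X} {w : i ≫ q = 0}
    (hS : (ShortComplex.mk i q w).ShortExact) : Coh.HH X A 1 :=
  (Ext.mk₀ (one X)).comp (hS.map_of_exact (Coherent.toAbFunctor X)).extClass (zero_add 1)

theorem step {A B : X.Modules} {i : A ⟶ B} {q : B ⟶ O X} {w : i ≫ q = 0}
    (hS : (ShortComplex.mk i q w).ShortExact) :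
    ∃ (w' : (N p X).map i ≫ (N p X).map q ≫ uO p X = 0)
      (hS' : (ShortComplex.mk ((N p X).map i) ((N p X).map q ≫ uO p X) w').ShortExact),
      cls hS' = (cls hS).comp (Ext.mk₀ (eta p A)) (add_zero 1) := by
  haveI : (N p X).PreservesZeroMorphisms := inferInstance
  have w' : (N p X).map i ≫ (N p X).map q ≫ uO p X = 0 := by
    rw [← Category.assoc, ← Functor.map_comp, w, Functor.map_zero, zero_comp]
  have h1 := KPull28.shortExact_pullback (FrobSch.frob X p) hS KvbLam28.isFinLocFree_structure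
  have hS' : (ShortComplex.mk ((N p X).map i) ((N p X).map q ≫ uO p X) w').ShortExact :=
    ShortComplex.shortExact_of_iso (show (ShortComplex.mk i q w).map (N p X) ≅
      ShortComplex.mk ((N p X).map i) ((N p X).map q ≫ uO p X) w' from
      ShortComplex.isoMk (Iso.refl _) (Iso.refl _) (asIso (uO p X)) (by simp) (by simp)) h1
  refine ⟨w', hS', ?_⟩
  let T := (ShortComplex.mk i q w).map (Coherent.toAbFunctor X)
  let T' := (ShortComplex.mk ((N p X).map i) ((N p X).map q ≫ uO p X) w').map (Coherent.toAbFunctor X)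
  let τ : T ⟶ T' :=
    { τ₁ := eta p A
      τ₂ := eta p B
      τ₃ := W4c5isocrystsimpconn.frobAb X p
      comm₁₂ := (eta_natural p i).symm
      comm₂₃ := by
        show eta p B ≫ (Coherent.toAbFunctor X).map ((N p X).map q ≫ uO p X) =
          (Coherent.toAbFunctor X).map q ≫ W4c5isocrystsimpconn.frobAb X p
        rw [Functor.map_comp, ← Category.assoc, ← eta_natural, Category.assoc, eta_one] }
  have hn := ShortComplex.ShortExact.extClass_naturality (hS.map_of_exact (Coherent.toAbFunctor X))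
    (hS'.map_of_exact (Coherent.toAbFunctor X)) τ
  show (Ext.mk₀ (one X)).comp (hS'.map_of_exact (Coherent.toAbFunctor X)).extClass (zero_add 1) =
    ((Ext.mk₀ (one X)).comp (hS.map_of_exact (Coherent.toAbFunctor X)).extClass (zero_add 1)).comp
      (Ext.mk₀ τ.τ₁) (add_zero 1)
  rw [Ext.comp_assoc_of_third_deg_zero, hn, Ext.mk₀_comp_mk₀_assoc,
    show one X ≫ τ.τ₃ = one X from one_frob p]

theorem iterate {m : ℕ} {A B : X.Modules} {i : A ⟶ B} {q : B ⟶ O X} {w : i ≫ q = 0}
    (hS : (ShortComplex.mk i q w).ShortExact) (ι : Fin m → (O X ⟶ A)) (π : Fin m → (A ⟶ O X))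
    (hsum : ∑ j, π j ≫ ι j = 𝟙 A) : ∀ n : ℕ,
    ∃ (i' : ((N p X).obj)^[n] A ⟶ ((N p X).obj)^[n] B) (q' : ((N p X).obj)^[n] B ⟶ O X) (w' : i' ≫ q' = 0)
      (hS' : (ShortComplex.mk i' q' w').ShortExact) (ι' : Fin m → (O X ⟶ ((N p X).obj)^[n] A))
      (π' : Fin m → (((N p X).obj)^[n] A ⟶ O X)), ∑ j, π' j ≫ ι' j = 𝟙 _ ∧
        ∀ j, (cls hS').comp (Ext.mk₀ ((Coherent.toAbFunctor X).map (π' j))) (add_zero 1) =
          (W4c5isocrystsimpconn.frobH X p 1)^[n]
            ((cls hS).comp (Ext.mk₀ ((Coherent.toAbFunctor X).map (π j))) (add_zero 1)) := by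
  intro n
  induction n with
  | zero => exact ⟨i, q, w, hS, ι, π, hsum, fun j => rfl⟩
  | succ n ih =>
    obtain ⟨i', q', w', hS', ι', π', hsum', hc⟩ := ih
    obtain ⟨w'', hS'', h⟩ := step p hS'
    rw [Function.iterate_succ_apply' (N p X).obj n A, Function.iterate_succ_apply' (N p X).obj n B]
    refine ⟨_, _, w'', hS'', fun j => inv (uO p X) ≫ (N p X).map (ι' j), fun j => (N p X).map (π' j) ≫ uO p X,
      ?_, fun j => ?_⟩
    · haveI : (N p X).Additive := inferInstance
      simp only [Category.assoc, IsIso.hom_inv_id_assoc, ← Functor.map_comp]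
      rw [← Functor.map_sum, hsum', CategoryTheory.Functor.map_id]
    · rw [h, Ext.comp_assoc_of_third_deg_zero, Ext.mk₀_comp_mk₀, Functor.map_comp, ← Category.assoc,
        ← eta_natural, Category.assoc, eta_one, ← Ext.mk₀_comp_mk₀, ← Ext.comp_assoc_of_third_deg_zero, hc j,
        Function.iterate_succ_apply']
      rfl

theorem iterate_ses {A B : X.Modules} {i : A ⟶ B} {q : B ⟶ O X} {w : i ≫ q = 0}
    (hS : (ShortComplex.mk i q w).ShortExact) : ∀ n : ℕ,
    ∃ (i' : ((N p X).obj)^[n] A ⟶ ((N p X).obj)^[n] B) (q' : ((N p X).obj)^[n] B ⟶ O X) (w' : i' ≫ q' = 0),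
      (ShortComplex.mk i' q' w').ShortExact := by
  intro n
  induction n with
  | zero => exact ⟨i, q, w, hS⟩
  | succ n ih =>
    obtain ⟨i', q', w', hS'⟩ := ih
    obtain ⟨w'', hS'', -⟩ := step p hS'
    rw [Function.iterate_succ_apply' (N p X).obj n A, Function.iterate_succ_apply' (N p X).obj n B]
    exact ⟨_, _, w'', hS''⟩

theorem exists_section {A B : X.Modules} {i : A ⟶ B} {q : B ⟶ O X} {w : i ≫ q = 0}
    (hS : (ShortComplex.mk i q w).ShortExact) (h : cls hS = 0) : ∃ s : O X ⟶ B, s ≫ q = 𝟙 _ := by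
  obtain ⟨x, hx⟩ := Ext.covariant_sequence_exact₃ _ (hS.map_of_exact (Coherent.toAbFunctor X))
    (Ext.mk₀ (one X)) (zero_add 1) h
  obtain ⟨g, rfl⟩ := (Ext.mk₀_bijective _ _).2 x
  rw [Ext.mk₀_comp_mk₀] at hx
  have hg : g ≫ (Coherent.toAbFunctor X).map q = one X := (Ext.mk₀_bijective _ _).1 hx
  let b : Γ(B, ⊤) := g.hom.app (op ⊤) (gen X)
  have hb : q.app ⊤ b = (1 : Γ(X, ⊤)) :=
    (congrArg (fun t => t.hom.app (op ⊤) (gen X)) hg).trans one_gen
  let σ : SheafOfModules.sections B := PresheafOfModules.sectionsMk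
    (fun U => B.presheaf.map (homOfLE le_top).op b) (fun U V f => by
      show B.presheaf.map f (B.presheaf.map _ b) = _
      rw [← ConcreteCategory.comp_apply, ← Functor.map_comp]
      rfl)
  refine ⟨(SheafOfModules.unitHomEquiv B).symm σ, (SheafOfModules.unitHomEquiv (O X)).injective ?_⟩
  rw [SheafOfModules.unitHomEquiv_comp_apply, Equiv.apply_symm_apply]
  refine Subtype.ext (funext fun U => ?_)
  show q.app U.unop (B.presheaf.map (homOfLE le_top).op b) = _
  refine (NatTrans.naturality_apply ((SheafOfModules.toSheaf X.ringCatSheaf).map q).hom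
    (homOfLE (le_top : U.unop ≤ ⊤)).op b).trans ?_
  refine (congrArg (X.presheaf.map (homOfLE (le_top : U.unop ≤ ⊤)).op) hb).trans ?_
  exact map_one (X.presheaf.map (homOfLE le_top).op).hom

theorem cls_eq_zero {m : ℕ} {A B : X.Modules} {i : A ⟶ B} {q : B ⟶ O X} {w : i ≫ q = 0}
    (hS : (ShortComplex.mk i q w).ShortExact) (ι : Fin m → (O X ⟶ A)) (π : Fin m → (A ⟶ O X))
    (hsum : ∑ j, π j ≫ ι j = 𝟙 A)
    (h : ∀ j, (cls hS).comp (Ext.mk₀ ((Coherent.toAbFunctor X).map (π j))) (add_zero 1) = 0) : cls hS = 0 := by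
  have key : ∀ (s : Finset (Fin m)),
      (cls hS).comp (Ext.mk₀ ((Coherent.toAbFunctor X).map (∑ j ∈ s, π j ≫ ι j))) (add_zero 1) = 0 := by
    intro s
    induction s using Finset.induction_on with
    | empty => rw [Finset.sum_empty, Functor.map_zero, Ext.mk₀_zero, Ext.comp_zero]
    | insert a s ha ih =>
      rw [Finset.sum_insert ha, Functor.map_add, Ext.mk₀_add, Ext.comp_add, ih, add_zero, Functor.map_comp,
        ← Ext.mk₀_comp_mk₀, ← Ext.comp_assoc_of_third_deg_zero, h, Ext.zero_comp]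
  have := key Finset.univ
  rw [hsum, CategoryTheory.Functor.map_id, Ext.comp_mk₀_id] at this
  exact this

theorem exists_decomp_freeMod (m : ℕ) : ∃ (ι : Fin m → (O X ⟶ FlatMod.freeMod X m))
    (π : Fin m → (FlatMod.freeMod X m ⟶ O X)), ∑ j, π j ≫ ι j = 𝟙 _ := by
  classical
  refine ⟨fun j => Sigma.ι (fun _ : Fin m => O X) j, fun j => Sigma.desc fun i => if i = j then 𝟙 _ else 0,
    Sigma.hom_ext _ _ fun i => ?_⟩
  rw [Preadditive.comp_sum, Finset.sum_eq_single i]
  · simp
  · intro j _ hj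
    simp [hj.symm]
  · intro h
    exact absurd (Finset.mem_univ i) h

theorem nonempty_freeMod_succ (m : ℕ) :
    Nonempty (FlatMod.freeMod X m ⊞ O X ≅ FlatMod.freeMod X (m + 1)) := by
  refine ⟨{ hom := biprod.desc (Sigma.desc fun i => Sigma.ι (fun _ : Fin (m + 1) => O X) i.castSucc)
              (Sigma.ι (fun _ : Fin (m + 1) => O X) (Fin.last m))
            inv := Sigma.desc (Fin.lastCases (motive := fun _ => O X ⟶ FlatMod.freeMod X m ⊞ O X) biprod.inr
              fun i => Sigma.ι (fun _ : Fin m => O X) i ≫ biprod.inl)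
            hom_inv_id := ?_, inv_hom_id := ?_ }⟩
  · refine biprod.hom_ext' _ _ (Sigma.hom_ext _ _ fun b => ?_) ?_ <;> simp
  · refine Sigma.hom_ext _ _ fun b => ?_
    induction b using Fin.lastCases <;> simp

theorem nonempty_iterate_free {r : ℕ} : ∀ (n : ℕ) {A : X.Modules}, (A ≅ FlatMod.freeMod X r) →
    Nonempty (((N p X).obj)^[n] A ≅ FlatMod.freeMod X r) := by
  intro n
  induction n with
  | zero => exact fun e => ⟨e⟩
  | succ n ih =>
    intro A e
    obtain ⟨e'⟩ := ih e
    obtain ⟨f⟩ := FlatMor12.FlatFun.nonempty_pullback_freeMod (FrobSch.frob X p) r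
    rw [Function.iterate_succ_apply']
    exact ⟨(N p X).mapIso e' ≪≫ f⟩

theorem main (b : ℕ) (hb : ∀ x : Coh.HH X (O X) 1, (W4c5isocrystsimpconn.frobH X p 1)^[b] x = 0) :
    ∀ (r : ℕ) (E : X.Modules), W4c5isocrystsimpconn.IsIterExt X r E →
      Nonempty (((N p X).obj)^[b * (r - 1)] E ≅ FlatMod.freeMod X r) := by
  intro r
  induction r with
  | zero =>
    intro E hE
    haveI : IsEmpty (Fin 0) := inferInstance
    exact ⟨(show IsZero E from hE).iso (DCat.ProjPerf.isZero_freeMod_zero (X := X))⟩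
  | succ m ih =>
    intro E hE
    obtain ⟨E', i, q, w, hE', hS⟩ := hE
    rcases Nat.eq_zero_or_pos m with rfl | hm
    · haveI : IsIso q := (ShortComplex.ShortExact.isIso_g_iff hS).2 hE'
      obtain ⟨e⟩ := nonempty_freeMod_succ (X := X) 0
      let e0 : FlatMod.freeMod X 0 ⊞ O X ≅ O X :=
        { hom := biprod.snd
          inv := biprod.inr
          hom_inv_id := biprod.hom_ext' _ _ ((DCat.ProjPerf.isZero_freeMod_zero (X := X)).eq_of_src _ _) (by simp)
          inv_hom_id := by simp }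
      exact ⟨(asIso q : E ≅ O X) ≪≫ e0.symm ≪≫ e⟩
    · obtain ⟨e'⟩ := ih E' hE'
      obtain ⟨ι₀, π₀, h₀⟩ := exists_decomp_freeMod (X := X) m
      obtain ⟨i₁, q₁, w₁, hS₁⟩ : ∃ (i₁ : FlatMod.freeMod X m ⟶ ((N p X).obj)^[b * (m - 1)] E)
          (q₁ : ((N p X).obj)^[b * (m - 1)] E ⟶ O X) (w₁ : i₁ ≫ q₁ = 0),
          (ShortComplex.mk i₁ q₁ w₁).ShortExact := by
        obtain ⟨i', q', w', hS'⟩ := iterate_ses p hS (b * (m - 1))
        exact ⟨e'.inv ≫ i', q', by rw [Category.assoc, w', comp_zero],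
          ShortComplex.shortExact_of_iso (show ShortComplex.mk i' q' w' ≅
            ShortComplex.mk (e'.inv ≫ i') q' (by rw [Category.assoc, w', comp_zero]) from
            ShortComplex.isoMk e' (Iso.refl _) (Iso.refl _) (by simp) (by simp)) hS'⟩
      obtain ⟨i', q', w', hS', ι', π', hsum', hc⟩ := iterate p hS₁ ι₀ π₀ h₀ b
      obtain ⟨s, hs⟩ := exists_section hS' (cls_eq_zero hS' ι' π' hsum' fun j => (hc j).trans (hb _))
      let sp := ShortComplex.Splitting.ofExactOfSection _ hS'.exact s hs hS'.mono_f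
      obtain ⟨e₁⟩ := nonempty_iterate_free p b (Iso.refl (FlatMod.freeMod X m))
      obtain ⟨e₂⟩ := nonempty_freeMod_succ (X := X) m
      have hn : b * (m + 1 - 1) = b + b * (m - 1) := by
        obtain ⟨k, rfl⟩ := Nat.exists_eq_add_of_le hm
        simp [Nat.mul_add, Nat.add_comm]
      rw [hn, Function.iterate_add_apply]
      exact ⟨sp.isoBinaryBiproduct ≪≫ biprod.mapIso e₁ (Iso.refl _) ≪≫ e₂⟩

end Groth.Agent.IterExt10
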